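import Groth.Agent.L13.RamP1.InsepLimit
import Mathlib.Algebra.Module.Submodule.Map

/-!
# Flipping two ramification indices `e ↦ p - e` of a pencil
-/

set_option autoImplicit false
universe u

namespace Groth.L03.Flip

open Polynomial W4c1limliniiii

variable {k : Type u} [Field k] {n : ℕ}

/-- multiplication by `(X - a) ^ m` -/
noncomputable def mulP (a : k) (m : ℕ) : k[X] →ₗ[k] k[X] := LinearMap.mulLeft k ((X - C a) ^ m)

theorem mulP_apply (a : k) (m : ℕ) (f : k[X]) : mulP a m f = (X - C a) ^ m * f := rfl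

/-- the flipped space -/
noncomputable def flip (p : ℕ) (P : Fin n → k) (e : Fin n → ℕ) (i j : Fin n) (V : Submodule k k[X]) : Submodule k k[X] :=
  (V.comap (mulP (P i) (e i))).map (mulP (P j) (p - e j)) ⊔ (V.comap (mulP (P j) (e j))).map (mulP (P i) (p - e i))

/-- the flipped data -/
def flipIdx (p : ℕ) (e : Fin n → ℕ) (i j : Fin n) : Fin n → ℕ :=
  Function.update (Function.update e i (p - e i)) j (p - e j)

variable {p d : ℕ} {e : Fin n → ℕ} {i j : Fin n}

theorem flipIdx_right : flipIdx p e i j j = p - e j := by simp [flipIdx]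

theorem flipIdx_left (hij : i ≠ j) : flipIdx p e i j i = p - e i := by simp [flipIdx, hij]

theorem flipIdx_of_ne {l : Fin n} (hi : l ≠ i) (hj : l ≠ j) : flipIdx p e i j l = e l := by simp [flipIdx, hi, hj]

/-- members of a base point free pencil vanishing at a point form a line -/
theorem comap_eq_span {V : Submodule k k[X]} (hrk : Module.finrank k V = 2) {a : k} (hbpf : ∃ s ∈ V, s.eval a ≠ 0)
    {m : ℕ} (hm : 1 ≤ m) {t : k[X]} (ht : (X - C a) ^ m * t ∈ V) (ht0 : t ≠ 0) :
    V.comap (mulP a m) = Submodule.span k {t} := by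
  refine le_antisymm (fun f hf => ?_) (Submodule.span_le.2 (Set.singleton_subset_iff.2 ht))
  obtain ⟨r, hrV, hra⟩ := hbpf
  obtain ⟨q, -, hq⟩ := L13.RamP1.exists_second hrk ht (mul_ne_zero (pow_ne_zero _ (X_sub_C_ne_zero a)) ht0)
  have e0 : ((X - C a) ^ m * t).eval a = 0 := by simp [zero_pow (show m ≠ 0 by omega)]
  have hqa : q.eval a ≠ 0 := fun h => hra (by
    obtain ⟨x, y, rfl⟩ := Submodule.mem_span_pair.1 (hq ▸ hrV)
    simp [e0, h])
  rw [Submodule.mem_comap, mulP_apply] at hf
  obtain ⟨x, y, hxy⟩ := Submodule.mem_span_pair.1 (hq ▸ hf)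
  have hy : y = 0 := by
    have h := congrArg (eval a) hxy
    simp [e0, zero_pow (show m ≠ 0 by omega)] at h
    exact h.resolve_right hqa
  subst hy
  refine Submodule.mem_span_singleton.2 ⟨x, mul_left_cancel₀ (pow_ne_zero m (X_sub_C_ne_zero a)) ?_⟩
  rw [← hxy, zero_smul, add_zero, mul_smul_comm]

theorem map_span_mulP (a : k) (m : ℕ) (t : k[X]) :
    (Submodule.span k {t}).map (mulP a m) = Submodule.span k {(X - C a) ^ m * t} := by
  rw [Submodule.map_span, Set.image_singleton, mulP_apply]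

theorem flip_eq_span {P : Fin n → k} {V : Submodule k k[X]} {ti tj : k[X]}
    (hi : V.comap (mulP (P i) (e i)) = Submodule.span k {ti}) (hj : V.comap (mulP (P j) (e j)) = Submodule.span k {tj}) :
    flip p P e i j V = Submodule.span k {(X - C (P j)) ^ (p - e j) * ti, (X - C (P i)) ^ (p - e i) * tj} := by
  rw [flip, hi, hj, map_span_mulP, map_span_mulP, Submodule.span_insert]

theorem wronskian_mul_common (h f g : k[X]) : wronskian (h * f) (h * g) = h ^ 2 * wronskian f g := by
  simp only [wronskian, derivative_mul]; ring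

variable [Fact p.Prime] [CharP k p]

theorem wronskian_pow_char_mul (a b : k) (f g : k[X]) :
    wronskian ((X - C b) ^ p * f) ((X - C a) ^ p * g) = (X - C a) ^ p * (X - C b) ^ p * wronskian f g := by
  have hd : ∀ c : k, derivative ((X - C c) ^ p) = 0 := fun c => by
    rw [derivative_pow, CharP.cast_eq_zero, map_zero, zero_mul, zero_mul]
  simp only [wronskian, derivative_mul, hd]; ring

theorem ramPoly_flip (hij : i ≠ j) (P : Fin n → k) (h1 : ∀ l, 1 ≤ e l) (hlt : ∀ l, e l < p) :
    ((X - C (P i)) ^ e i * (X - C (P j)) ^ e j) ^ 2 * L13.RamP1.ramPoly P (flipIdx p e i j) =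
      (X - C (P i)) ^ p * (X - C (P j)) ^ p * L13.RamP1.ramPoly P e := by
  classical
  have hj : j ∈ Finset.univ.erase i := Finset.mem_erase.2 ⟨hij.symm, Finset.mem_univ j⟩
  simp only [L13.RamP1.ramPoly]
  rw [← Finset.mul_prod_erase _ _ (Finset.mem_univ i), ← Finset.mul_prod_erase _ _ hj,
    ← Finset.mul_prod_erase _ (fun l => (X - C (P l)) ^ (e l - 1)) (Finset.mem_univ i),
    ← Finset.mul_prod_erase _ (fun l => (X - C (P l)) ^ (e l - 1)) hj]
  rw [Finset.prod_congr rfl (fun l hl => by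
    obtain ⟨h1, h2⟩ := Finset.mem_erase.1 hl
    rw [flipIdx_of_ne (Finset.mem_erase.1 h2).1 h1] :
      ∀ l ∈ (Finset.univ.erase i).erase j, (X - C (P l)) ^ (flipIdx p e i j l - 1) = (X - C (P l)) ^ (e l - 1))]
  rw [flipIdx_left hij, flipIdx_right]
  have a1 := h1 i; have a2 := h1 j; have b1 := hlt i; have b2 := hlt j
  have ei : e i * 2 + (p - e i - 1) = p + (e i - 1) := by omega
  have ej : e j * 2 + (p - e j - 1) = p + (e j - 1) := by omega
  have p1 : (X - C (P i)) ^ (e i * 2) * (X - C (P i)) ^ (p - e i - 1) = (X - C (P i)) ^ p * (X - C (P i)) ^ (e i - 1) := by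
    rw [← pow_add, ei, pow_add]
  have p2 : (X - C (P j)) ^ (e j * 2) * (X - C (P j)) ^ (p - e j - 1) = (X - C (P j)) ^ p * (X - C (P j)) ^ (e j - 1) := by
    rw [← pow_add, ej, pow_add]
  rw [mul_pow, ← pow_mul, ← pow_mul]
  linear_combination ((∏ x ∈ (Finset.univ.erase i).erase j, (X - C (P x)) ^ (e x - 1)) *
      ((X - C (P j)) ^ (e j * 2) * (X - C (P j)) ^ (p - e j - 1))) * p1 +
    ((∏ x ∈ (Finset.univ.erase i).erase j, (X - C (P x)) ^ (e x - 1)) *
      ((X - C (P i)) ^ p * (X - C (P i)) ^ (e i - 1))) * p2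

/-- flipping a pencil which separates the two points -/
theorem flip_spec [IsAlgClosed k] (hij : i ≠ j) {P : Fin n → k} (hP : Function.Injective P) (h1 : ∀ l, 1 ≤ e l)
    (hlt : ∀ l, e l < p) (hsum : (∑ l, (e l - 1)) + 2 = 2 * d) {d' : ℕ} (hd' : d' + e i + e j = d + p)
    (hsum' : (∑ l, (flipIdx p e i j l - 1)) + 2 = 2 * d') {V : Submodule k k[X]} (hV : V ∈ ramMaps d P e)
    (hsepij : ∀ s ∈ V, s.IsRoot (P i) → s.IsRoot (P j) → s = 0) :
    flip p P e i j V ∈ ramMaps d' P (flipIdx p e i j) ∧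
      flip p P (flipIdx p e i j) i j (flip p P e i j V) = V := by
  classical
  obtain ⟨⟨hle, hrk, -, hbpf⟩, hsep, hram⟩ := hV
  obtain ⟨⟨si, hsiV, hsi0, hsie⟩, -⟩ := hram i
  obtain ⟨⟨sj, hsjV, hsj0, hsje⟩, -⟩ := hram j
  obtain ⟨ti, hti⟩ := L13.RamP1.pow_dvd_of_le hsie
  obtain ⟨tj, htj⟩ := L13.RamP1.pow_dvd_of_le hsje
  subst hti htj
  have hti0 : ti ≠ 0 := right_ne_zero_of_mul hsi0
  have htj0 : tj ≠ 0 := right_ne_zero_of_mul hsj0
  have root : ∀ (a : k) (m : ℕ) (t : k[X]), 1 ≤ m → ((X - C a) ^ m * t).IsRoot a := fun a m t hm => by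
    simp [zero_pow (show m ≠ 0 by omega)]
  obtain ⟨t₀, -, ht₀⟩ := L13.RamP1.exists_second hrk hsiV hsi0
  have hVs : V = Submodule.span k {(X - C (P i)) ^ e i * ti, (X - C (P j)) ^ e j * tj} := by
    have hfin : FiniteDimensional k V := Module.finite_of_finrank_eq_succ hrk
    refine (Submodule.eq_of_le_of_finrank_le (Submodule.span_le.2 (by
      rintro x (rfl | rfl)
      · exact hsiV
      · exact hsjV)) ?_).symm
    have hli : LinearIndependent k ![(X - C (P i)) ^ e i * ti, (X - C (P j)) ^ e j * tj] := by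
      rw [LinearIndependent.pair_iff' hsi0]
      exact fun a h => hsj0 (hsepij _ hsjV
        (by rw [← h, IsRoot, eval_smul, root _ _ _ (h1 i), smul_zero]) (root _ _ _ (h1 j)))
    have h2 := finrank_span_eq_card hli
    rw [Matrix.range_cons_cons_empty, Fintype.card_fin] at h2
    rw [hrk, h2]
  set si := (X - C (P i)) ^ e i * ti
  set sj := (X - C (P j)) ^ e j * tj
  set F := (X - C (P j)) ^ (p - e j) * ti
  set G := (X - C (P i)) ^ (p - e i) * tj
  set h := (X - C (P i)) ^ e i * (X - C (P j)) ^ e j with hh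
  have hflip : flip p P e i j V = Submodule.span k {F, G} :=
    flip_eq_span (comap_eq_span hrk (hbpf _) (h1 i) hsiV hti0) (comap_eq_span hrk (hbpf _) (h1 j) hsjV htj0)
  have hF : h * F = (X - C (P j)) ^ p * si := by
    conv_rhs => rw [show p = e j + (p - e j) by have := hlt j; omega, pow_add]
    simp only [h, F, si]; ring
  have hG : h * G = (X - C (P i)) ^ p * sj := by
    conv_rhs => rw [show p = e i + (p - e i) by have := hlt i; omega, pow_add]
    simp only [h, G, sj]; ring
  have hW : wronskian si sj ≠ 0 := L13.RamP1.isSeparable_iff.1 (hVs ▸ hsep)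
  obtain ⟨γ, hγ⟩ := L13.RamP1.ramPoly_dvd_wronskian P hP e hrk hVs fun l => (hram l).1
  obtain ⟨g, rfl⟩ : ∃ g, γ = C g := by
    have hγ0 : γ ≠ 0 := fun h => hW (by rw [hγ, h, mul_zero])
    have := (L13.RamP1.natDegree_wronskian_le hle hsiV hsjV).1
    rw [hγ, natDegree_mul (L13.RamP1.ramPoly_ne_zero P e) hγ0, L13.RamP1.natDegree_ramPoly] at this
    exact ⟨_, eq_C_of_natDegree_eq_zero (by omega)⟩
  have hg0 : g ≠ 0 := fun h => hW (by rw [hγ, h, map_zero, mul_zero])
  have hWFG : wronskian F G = C g * L13.RamP1.ramPoly P (flipIdx p e i j) := by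
    refine mul_left_cancel₀ (pow_ne_zero 2 (mul_ne_zero (pow_ne_zero _ (X_sub_C_ne_zero (P i)))
      (pow_ne_zero _ (X_sub_C_ne_zero (P j)))) : h ^ 2 ≠ 0) ?_
    rw [← wronskian_mul_common, hF, hG, wronskian_pow_char_mul, hγ]
    linear_combination -(C g) * ramPoly_flip hij P h1 hlt
  have hWFG0 : wronskian F G ≠ 0 := by
    rw [hWFG]; exact mul_ne_zero (C_ne_zero.2 hg0) (L13.RamP1.ramPoly_ne_zero _ _)
  have hrk' := L13.RamP1.finrank_span_pair_of_wronskian hWFG0
  have hFV : F ∈ Submodule.span k ({F, G} : Set k[X]) := Submodule.subset_span (by simp)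
  have hGV : G ∈ Submodule.span k ({F, G} : Set k[X]) := Submodule.subset_span (by simp)
  have deg : ∀ (a b : k) (m : ℕ) (t : k[X]) (r : ℕ), (X - C a) ^ m * t ∈ V → t ≠ 0 →
      ((X - C b) ^ r * t).natDegree + m ≤ r + d := fun a b m t r hs ht => by
    have := L13.RamP1.natDegree_le_of_mem (hle hs)
    rw [natDegree_mul (pow_ne_zero _ (X_sub_C_ne_zero a)) ht, natDegree_pow, natDegree_X_sub_C] at this
    rw [natDegree_mul (pow_ne_zero _ (X_sub_C_ne_zero b)) ht, natDegree_pow, natDegree_X_sub_C]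
    omega
  have hle' : Submodule.span k ({F, G} : Set k[X]) ≤ degreeLE k (d' : WithBot ℕ) := by
    rw [Submodule.span_le]
    rintro x (rfl | rfl)
    · refine L13.RamP1.mem_degreeLE_of ?_
      have := deg (P i) (P j) (e i) ti (p - e j) hsiV hti0
      have := hlt j
      simp only [F]; omega
    · refine L13.RamP1.mem_degreeLE_of ?_
      have := deg (P j) (P i) (e j) tj (p - e i) hsjV htj0
      have := hlt i
      simp only [G]; omega
  have hli := L13.RamP1.finrank_span_pair_of_wronskian hWFG0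
  have hne : ∀ α β : k, (α • F + β • G = 0) → α = 0 ∧ β = 0 := by
    intro α β h0
    have ha : wronskian (α • F + β • G) G = C α * wronskian F G := by
      simp only [wronskian, smul_eq_C_mul, derivative_add, derivative_C_mul]; ring
    have hb : wronskian F (α • F + β • G) = C β * wronskian F G := by
      simp only [wronskian, smul_eq_C_mul, derivative_add, derivative_C_mul]; ring
    rw [h0, wronskian_zero_left, eq_comm, mul_eq_zero, C_eq_zero] at ha
    rw [h0, wronskian_zero_right, eq_comm, mul_eq_zero, C_eq_zero] at hb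
    exact ⟨ha.resolve_right hWFG0, hb.resolve_right hWFG0⟩
  have h1' : ∀ l, 1 ≤ flipIdx p e i j l := fun l => by
    rcases eq_or_ne l j with rfl | hlj
    · rw [flipIdx_right]; have := hlt l; omega
    rcases eq_or_ne l i with rfl | hli
    · rw [flipIdx_left hij]; have := hlt l; omega
    · rw [flipIdx_of_ne hli hlj]; exact h1 l
  have hmem : ∀ l, ∃ s ∈ Submodule.span k ({F, G} : Set k[X]), s ≠ 0 ∧ (X - C (P l)) ^ flipIdx p e i j l ∣ s := by
    intro l
    rcases eq_or_ne l j with rfl | hlj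
    · exact ⟨F, hFV, mul_ne_zero (pow_ne_zero _ (X_sub_C_ne_zero _)) hti0, by rw [flipIdx_right]; exact dvd_mul_right _ _⟩
    rcases eq_or_ne l i with rfl | hli
    · exact ⟨G, hGV, mul_ne_zero (pow_ne_zero _ (X_sub_C_ne_zero _)) htj0, by rw [flipIdx_left hij]; exact dvd_mul_right _ _⟩
    rw [flipIdx_of_ne hli hlj]
    obtain ⟨⟨s, hsV, hs0, hse⟩, -⟩ := hram l
    obtain ⟨α, β, rfl⟩ := Submodule.mem_span_pair.1 (hVs ▸ hsV)
    have na : P l - P i ≠ 0 := sub_ne_zero.2 fun h => hli (hP h)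
    have nb : P l - P j ≠ 0 := sub_ne_zero.2 fun h => hlj (hP h)
    refine ⟨(α / (P l - P j) ^ p) • F + (β / (P l - P i) ^ p) • G,
      add_mem (Submodule.smul_mem _ _ hFV) (Submodule.smul_mem _ _ hGV), fun h0 => ?_, ?_⟩
    · obtain ⟨ha, hb⟩ := hne _ _ h0
      rw [div_eq_zero_iff, or_iff_left (pow_ne_zero _ nb)] at ha
      rw [div_eq_zero_iff, or_iff_left (pow_ne_zero _ na)] at hb
      exact hs0 (by simp [ha, hb])
    · have cop : ∀ a : k, P l - a ≠ 0 → ∀ m, IsCoprime ((X - C (P l)) ^ e l) ((X - C a) ^ m) := fun a ha m =>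
        (isCoprime_X_sub_C_of_isUnit_sub ha.isUnit).pow
      refine ((cop _ na (e i)).mul_right (cop _ nb (e j))).dvd_of_dvd_mul_left ?_
      rw [← hh]
      have key : ∀ a : k, P l - a ≠ 0 → (X - C (P l)) ^ e l ∣ C ((1 : k) / (P l - a) ^ p) * (X - C a) ^ p - 1 := by
        intro a ha
        have e1 : (X - C a) ^ p = (X - C (P l)) ^ p + C ((P l - a) ^ p) := by
          rw [map_pow, ← add_pow_char, map_sub]; ring
        have e2 : C ((1 : k) / (P l - a) ^ p) * C ((P l - a) ^ p) = 1 := by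
          rw [← map_mul, div_mul_cancel₀ _ (pow_ne_zero _ ha), map_one]
        rw [e1, mul_add, e2, add_sub_cancel_right]
        exact (pow_dvd_pow _ (hlt l).le).mul_left _
      have hs := L13.RamP1.pow_dvd_of_le hse
      have e : h * ((α / (P l - P j) ^ p) • F + (β / (P l - P i) ^ p) • G) = (α • si + β • sj) +
          C α * si * (C ((1 : k) / (P l - P j) ^ p) * (X - C (P j)) ^ p - 1) +
          C β * sj * (C ((1 : k) / (P l - P i) ^ p) * (X - C (P i)) ^ p - 1) := by
        have hca : C (α / (P l - P j) ^ p) = C α * C ((1 : k) / (P l - P j) ^ p) := by rw [← map_mul, mul_one_div]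
        have hcb : C (β / (P l - P i) ^ p) = C β * C ((1 : k) / (P l - P i) ^ p) := by rw [← map_mul, mul_one_div]
        simp only [smul_eq_C_mul, hca, hcb]
        linear_combination C α * C ((1 : k) / (P l - P j) ^ p) * hF + C β * C ((1 : k) / (P l - P i) ^ p) * hG
      rw [e]
      exact dvd_add (dvd_add hs ((key _ nb).mul_left _)) ((key _ na).mul_left _)
  obtain ⟨hb', hr'⟩ := L13.RamP1.bpf_and_ram hP h1' hg0 hWFG hmem
  refine ⟨?_, ?_⟩
  · rw [hflip]
    refine ⟨⟨hle', hrk', ?_, hb'⟩, L13.RamP1.isSeparable_iff.2 hWFG0, hr'⟩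
    by_contra hall
    push Not at hall
    have := (L13.RamP1.natDegree_wronskian_le hle' hFV hGV).2 hall hWFG0
    rw [hWFG, natDegree_C_mul hg0, L13.RamP1.natDegree_ramPoly] at this
    omega
  · rw [hflip, flip_eq_span (ti := tj) (tj := ti)]
    · rw [flipIdx_right, flipIdx_left hij, Nat.sub_sub_self (hlt i).le, Nat.sub_sub_self (hlt j).le,
        Set.pair_comm]
      exact hVs.symm
    · rw [flipIdx_left hij]
      exact comap_eq_span hrk' (hb' _) (by have := hlt i; omega) hGV htj0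
    · rw [flipIdx_right]
      exact comap_eq_span hrk' (hb' _) (by have := hlt j; omega) hFV hti0

end Groth.L03.Flip
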