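import Groth.Agent.L13.RamP1.General
import Mathlib.FieldTheory.AlgebraicClosure
import Mathlib.FieldTheory.IntermediateField.Adjoin.Algebra

/-!
# An extra point is separated from the others by pencils at general points
-/

set_option autoImplicit false
universe u

namespace Groth.L03.Flip

open Polynomial W4c1limliniiii Groth.L13.RamP1

/-- the charts of a sub-datum together with an extra coincidence force dependent points -/
theorem not_algebraicIndependent_extra {k : Type u} [Field k] [PerfectField k] {L : Type u} [Field L] [Algebra k L]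
    {n m d : ℕ} {e : Fin m → ℕ} {p : ℕ} [CharP k p] (he : Admissible p d e) {ι : Fin m → Fin n} (hι : Function.Injective ι)
    {i j : Fin n} (hi : ∀ l, ι l ≠ i) (hij : i ≠ j) {b : Fin (d + 1)} (hb : (b : ℕ) < d) {c : Fin m → Bool}
    {x : Fin n ⊕ CoefIdx d → L} (heq : ∀ s, eqn (x ∘ Sum.map ι id) e b s = 0)
    (hopen : openC (x ∘ Sum.map ι id) c ≠ 0) (htie : tie x i j = 0)
    (hpiv : (gP x).eval (pt x j) ≠ 0 ∨ (fP x).eval (pt x j) ≠ 0) :
    ¬ AlgebraicIndependent k (x ∘ Sum.inl) := by
  classical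
  intro hind
  set x' := x ∘ Sum.map ι id with hx'
  let L₀ : IntermediateField k L := IntermediateField.adjoin k (Set.range x')
  let y : Fin m ⊕ CoefIdx d → L₀ := fun a => ⟨x' a, IntermediateField.subset_adjoin k _ ⟨a, rfl⟩⟩
  have hy : (L₀.val : L₀ →+* L) ∘ y = x' := rfl
  haveI : Algebra.EssFiniteType k L₀ :=
    IntermediateField.essFiniteType_iff.2 (IntermediateField.fg_def.2 ⟨_, Set.finite_range x', rfl⟩)
  have haeval : ∀ a : MvPolynomial (Fin m ⊕ CoefIdx d) k, ((MvPolynomial.aeval y a : L₀) : L) = MvPolynomial.aeval x' a :=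
    fun a => MvPolynomial.comp_aeval_apply y L₀.val a
  have hgen : ∀ z : L₀, ∃ a b : MvPolynomial (Fin m ⊕ CoefIdx d) k,
      MvPolynomial.aeval y b ≠ 0 ∧ z = MvPolynomial.aeval y a / MvPolynomial.aeval y b := fun z => by
    obtain ⟨r, t, hrt⟩ := (IntermediateField.mem_adjoin_range_iff k x' (z : L)).1 z.2
    rcases eq_or_ne (MvPolynomial.aeval x' t) 0 with h0 | h0
    · exact ⟨0, 1, by simp, Subtype.ext (by rw [hrt, h0, div_zero]; simp)⟩
    · refine ⟨r, t, fun h => h0 (by rw [← haeval, h]; rfl), Subtype.ext ?_⟩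
      rw [IntermediateField.coe_div, haeval, haeval]; exact hrt
  have heq' : ∀ s, eqn y e b s = 0 := fun s =>
    L₀.val.toRingHom.injective (by rw [map_eqn, map_zero]; exact heq s)
  have hopen' : openC y c ≠ 0 := fun h => hopen (by rw [← hy, ← map_openC, h, map_zero])
  have hind' : AlgebraicIndependent k (y ∘ Sum.inl) :=
    AlgebraicIndependent.of_comp L₀.val (by exact hind.comp ι hι)
  have halg := coeff_isAlgebraic he hb hgen heq' hopen' hind'
  -- the coefficients are algebraic over the other points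
  set S := (x ∘ Sum.inl) '' {i}ᶜ with hS
  let K := IntermediateField.adjoin k S
  let M := algebraicClosure K L
  have hcoef : ∀ t, x (Sum.inr t) ∈ M := by
    intro t
    rw [mem_algebraicClosure_iff]
    have h1 := halg t
    refine IntermediateField.isAlgebraic_adjoin_iff.2 ?_
    obtain ⟨q, hq0, hq⟩ := h1
    have hAlg : IsAlgebraic (Algebra.adjoin k (Set.range (y ∘ Sum.inl))) (y (Sum.inr t)) := ⟨q, hq0, hq⟩
    have hinc : ∀ a ∈ Algebra.adjoin k (Set.range (y ∘ Sum.inl)), (a : L) ∈ Algebra.adjoin k S := by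
      intro a ha
      have hle : Algebra.adjoin k (Set.range (y ∘ Sum.inl)) ≤ (Algebra.adjoin k S).comap L₀.val := by
        rw [Algebra.adjoin_le_iff]
        rintro _ ⟨l, rfl⟩
        exact Algebra.subset_adjoin ⟨ι l, hi l, rfl⟩
      exact hle ha
    refine hAlg.ringHom_of_comp_eq ((L₀.val.toRingHom.comp (Algebra.adjoin k (Set.range (y ∘ Sum.inl))).val.toRingHom).codRestrict
      (Algebra.adjoin k S).toSubring fun a => hinc a a.2) L₀.val.toRingHom ?_ ?_
    · intro a a' h
      have h' := congrArg Subtype.val h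
      exact Subtype.ext (L₀.val.toRingHom.injective h')
    · rfl
  have hptj : pt x j ∈ M := (algebraMap K M (⟨pt x j, IntermediateField.subset_adjoin k _ ⟨j, hij.symm, rfl⟩⟩ : K)).2
  let f' : M[X] := ∑ l : Fin (d + 1), Polynomial.C (⟨_, hcoef (Sum.inl l)⟩ : M) * Polynomial.X ^ (l : ℕ)
  let g' : M[X] := ∑ l : Fin (d + 1), Polynomial.C (⟨_, hcoef (Sum.inr l)⟩ : M) * Polynomial.X ^ (l : ℕ)
  let q' : M[X] := f' * Polynomial.C (g'.eval ⟨_, hptj⟩) - Polynomial.C (f'.eval ⟨_, hptj⟩) * g'
  have hf : f'.map M.val.toRingHom = fP x := by simp [f', fP, polyOf, Polynomial.map_sum]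
  have hg : g'.map M.val.toRingHom = gP x := by simp [g', gP, polyOf, Polynomial.map_sum]
  have hq : q'.map M.val.toRingHom = fP x * Polynomial.C ((gP x).eval (pt x j)) - Polynomial.C ((fP x).eval (pt x j)) * gP x := by
    have e1 : M.val.toRingHom (g'.eval ⟨_, hptj⟩) = (gP x).eval (pt x j) := by
      rw [← hg]; exact (Polynomial.eval_map_apply M.val.toRingHom _).symm
    have e2 : M.val.toRingHom (f'.eval ⟨_, hptj⟩) = (fP x).eval (pt x j) := by
      rw [← hf]; exact (Polynomial.eval_map_apply M.val.toRingHom _).symm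
    simp only [q', Polynomial.map_sub, Polynomial.map_mul, Polynomial.map_C, hf, hg, e1, e2]
  have hW : wronskian (fP x) (gP x) ≠ 0 := by
    intro h
    rw [openC, mul_ne_zero_iff, mul_ne_zero_iff] at hopen
    refine hopen.1.2 ?_
    show (wronskian (fP x) (gP x)).coeff _ = 0
    rw [h, coeff_zero]
  have hq0 : q' ≠ 0 := by
    intro h
    rw [h, Polynomial.map_zero, eq_comm] at hq
    have h1 : Polynomial.C ((gP x).eval (pt x j)) * wronskian (fP x) (gP x) = 0 := by
      have e1 := congrArg derivative hq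
      simp only [derivative_sub, derivative_mul, derivative_C, mul_zero, zero_mul, add_zero, zero_add, derivative_zero] at e1
      rw [wronskian]
      linear_combination (derivative (gP x)) * hq - (gP x) * e1
    have h2 : Polynomial.C ((fP x).eval (pt x j)) * wronskian (fP x) (gP x) = 0 := by
      have e1 := congrArg derivative hq
      simp only [derivative_sub, derivative_mul, derivative_C, mul_zero, zero_mul, add_zero, zero_add, derivative_zero] at e1
      rw [wronskian]
      linear_combination (derivative (fP x)) * hq - (fP x) * e1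
    rcases hpiv with hv | hv
    · exact hW ((mul_eq_zero.1 h1).resolve_left (C_ne_zero.2 hv))
    · exact hW ((mul_eq_zero.1 h2).resolve_left (C_ne_zero.2 hv))
  have hroot : Polynomial.aeval (pt x i) q' = 0 := by
    rw [aeval_def, show algebraMap M L = M.val.toRingHom from rfl, ← eval_map, hq]
    simp only [eval_sub, eval_mul, eval_C]
    rw [tie] at htie
    linear_combination htie
  have hi_alg : IsAlgebraic K (pt x i) := by
    haveI : Algebra.IsAlgebraic K M := algebraicClosure.isAlgebraic K L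
    exact IsAlgebraic.restrictScalars K (show IsAlgebraic M (pt x i) from ⟨q', hq0, hroot⟩)
  exact hind.transcendental_adjoin (fun h => h rfl : i ∉ ({i}ᶜ : Set (Fin n))) (IntermediateField.isAlgebraic_adjoin_iff.1 hi_alg)

variable {k : Type u} [Field k] [IsAlgClosed k] {n m d : ℕ} {p : ℕ} [CharP k p] {e : Fin m → ℕ}

theorem separate_extra (he : Admissible p d e) {ι : Fin m → Fin n} (hι : Function.Injective ι)
    {i j : Fin n} (hi : ∀ l, ι l ≠ i) (hij : i ≠ j) :
    ∃ Φ : MvPolynomial (Fin n) k, Φ ≠ 0 ∧ ∀ P : Fin n → k, MvPolynomial.eval P Φ ≠ 0 →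
      ∀ V ∈ ramMaps d (P ∘ ι) e, ∀ s ∈ V, s.IsRoot (P i) → s.IsRoot (P j) → s = 0 := by
  classical
  let Xm : Fin m ⊕ CoefIdx d → MvPolynomial (Fin n ⊕ CoefIdx d) k := MvPolynomial.X ∘ Sum.map ι id
  let X' : Fin n ⊕ CoefIdx d → MvPolynomial (Fin n ⊕ CoefIdx d) k := MvPolynomial.X
  let piv : Bool → MvPolynomial (Fin n ⊕ CoefIdx d) k := fun cj =>
    if cj then (gP X').eval (pt X' j) else (fP X').eval (pt X' j)
  have chart : ∀ q : {b : Fin (d + 1) // (b : ℕ) < d} × (Fin m → Bool) × Bool,
      ∃ Φ : MvPolynomial (Fin n) k, Φ ≠ 0 ∧ ∀ P : Fin n → k, MvPolynomial.eval P Φ ≠ 0 →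
        ∀ z : CoefIdx d → k, (∀ f ∈ Ideal.span (insert (tie X' i j) (Set.range (eqn Xm e q.1.1))),
          MvPolynomial.eval (Sum.elim P z) f = 0) → MvPolynomial.eval (Sum.elim P z) (openC Xm q.2.1 * piv q.2.2) = 0 := by
    rintro ⟨⟨b, hb⟩, c, cj⟩
    refine (elimination (k := k) (n := n) (τ := CoefIdx d) _ _).2 fun L _ _ _ x hgen hI hh => ?_
    let φ : MvPolynomial (Fin n ⊕ CoefIdx d) k →+* L := (MvPolynomial.aeval x).toRingHom
    have hx : φ ∘ X' = x := funext fun l => MvPolynomial.aeval_X x l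
    have hxm : φ ∘ Xm = x ∘ Sum.map ι id := by rw [show φ ∘ Xm = (φ ∘ X') ∘ Sum.map ι id from rfl, hx]
    rw [map_mul, mul_ne_zero_iff] at hh
    refine not_algebraicIndependent_extra he hι hi hij hb (fun s => ?_)
      (c := c) ?_ ?_ ?_
    · rw [← hxm, ← map_eqn]; exact hI _ (Ideal.subset_span (Or.inr ⟨s, rfl⟩))
    · rw [← hxm, ← map_openC]; exact hh.1
    · rw [← hx, ← map_tie]; exact hI _ (Ideal.subset_span (Or.inl rfl))
    · have h2 : φ (piv cj) ≠ 0 := hh.2
      by_cases hc : cj
      · left; rw [← hx, ← eval_gP]; simpa [piv, hc] using h2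
      · right; rw [← hx, ← eval_fP]; simpa [piv, hc] using h2
  choose Φ hΦ0 hΦ using chart
  refine ⟨(∏ q, Φ q) * ∏ ab : {ab : Fin n × Fin n // ab.1 ≠ ab.2}, (MvPolynomial.X ab.1.1 - MvPolynomial.X ab.1.2),
    mul_ne_zero (Finset.prod_ne_zero_iff.2 fun q _ => hΦ0 q)
      (Finset.prod_ne_zero_iff.2 fun ab _ => sub_ne_zero.2 fun h => ab.2 (MvPolynomial.X_injective h)), fun P hP V hV s hs hsi hsj => ?_⟩
  simp only [map_mul, map_prod, mul_ne_zero_iff, Finset.prod_ne_zero_iff, map_sub, MvPolynomial.eval_X] at hP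
  obtain ⟨hP1, hP3⟩ := hP
  have hPinj : Function.Injective P := fun a b h => by
    by_contra hne
    exact hP3 ⟨(a, b), hne⟩ (Finset.mem_univ _) (sub_eq_zero.2 h)
  obtain ⟨b, c, z, hb, heq, ho, hVz⟩ := exists_chart (hPinj.comp hι) he hV
  let φ : MvPolynomial (Fin n ⊕ CoefIdx d) k →+* k := MvPolynomial.eval (Sum.elim P z)
  have hx : φ ∘ X' = Sum.elim P z := funext fun l => MvPolynomial.eval_X l
  have hel : Sum.elim P z ∘ Sum.map ι id = Sum.elim (P ∘ ι) z := by
    funext l; rcases l with l | l <;> rfl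
  have hxm : φ ∘ Xm = Sum.elim (P ∘ ι) z := by rw [show φ ∘ Xm = (φ ∘ X') ∘ Sum.map ι id from rfl, hx, hel]
  set F := fP (Sum.elim (P ∘ ι) z) with hF
  set G := gP (Sum.elim (P ∘ ι) z) with hG
  have hFP : fP (Sum.elim P z) = F := rfl
  have hGP : gP (Sum.elim P z) = G := rfl
  obtain ⟨⟨-, -, -, hbpf⟩, -, -⟩ := hV
  have hpivot : G.eval (P j) ≠ 0 ∨ F.eval (P j) ≠ 0 := by
    by_contra hcon
    push Not at hcon
    obtain ⟨r, hr, hr0⟩ := hbpf (P j)
    obtain ⟨α, β, rfl⟩ := Submodule.mem_span_pair.1 (hVz ▸ hr)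
    exact hr0 (by simp [hcon.1, hcon.2])
  let cj : Bool := decide (G.eval (P j) ≠ 0)
  have hpne : φ (piv cj) ≠ 0 := by
    by_cases hg : G.eval (P j) = 0
    · simp only [piv, cj, hg, ne_eq, not_true_eq_false, decide_false, Bool.false_eq_true, if_false]
      rw [eval_fP, hx, hFP]; exact hpivot.resolve_left (fun h => h hg)
    · simp only [piv, cj, hg, ne_eq, not_false_eq_true, decide_true, if_true]
      rw [eval_gP, hx, hGP]; exact hg
  by_contra hs0
  obtain ⟨α, β, rfl⟩ := Submodule.mem_span_pair.1 (hVz ▸ hs)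
  simp only [IsRoot, eval_add, eval_smul, smul_eq_mul] at hsi hsj
  have htie : tie (Sum.elim P z) i j = 0 := by
    simp only [tie, pt, Sum.elim_inl, hFP, hGP]
    by_contra hne
    have hα : α = 0 := (mul_eq_zero.1 (show α * _ = 0 by
      linear_combination G.eval (P j) * hsi - G.eval (P i) * hsj)).resolve_right hne
    have hβ : β = 0 := (mul_eq_zero.1 (show β * _ = 0 by
      linear_combination F.eval (P i) * hsj - F.eval (P j) * hsi)).resolve_right hne
    exact hs0 (by simp [hα, hβ])
  have h := hΦ (⟨b, hb⟩, c, cj) P (hP1 _ (Finset.mem_univ _)) z (fun f hf => by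
    induction hf using Submodule.span_induction with
    | mem f hf =>
      rcases hf with rfl | ⟨t, rfl⟩
      · show φ _ = 0
        rw [map_tie, hx]; exact htie
      · show φ _ = 0
        rw [map_eqn, hxm]; exact heq t
    | zero => exact map_zero _
    | add f g _ _ hf hg => rw [map_add, hf, hg, add_zero]
    | smul r f _ hf => rw [smul_eq_mul, map_mul, hf, mul_zero])
  change φ _ = 0 at h
  rw [map_mul, map_openC, hxm] at h
  exact (mul_ne_zero ho hpne) h

end Groth.L03.Flip
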